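import Mathlib

/-!
# dim Ω ≥ transcendence degree, and semicontinuity of fibre rank of a finite module
-/

universe u

set_option linter.style.haveILetI false

open TensorProduct

namespace Groth.Agent.OmegaTrdeg

/-- For an essentially finite type field extension, `trdeg k K ≤ dim_K Ω[K/k]`. -/
theorem trdeg_le_finrank_omega (k K : Type u) [Field k] [Field K] [Algebra k K]
    [Algebra.EssFiniteType k K] :
    Algebra.trdeg k K ≤ (Module.finrank K (Ω[K⁄k]) : Cardinal.{u}) := by
  classical
  obtain ⟨b, hbsub, hbspan, hbli⟩ :=
    exists_linearIndependent K (Set.range (KaehlerDifferential.D k K))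
  haveI : Fintype b := FiniteDimensional.fintypeBasisIndex
    (Module.Basis.mk hbli (by rw [Subtype.range_coe, hbspan, KaehlerDifferential.span_range_derivation]))
  choose g hg using fun x : b => hbsub x.2
  let s : Set K := Set.range g
  let F := IntermediateField.adjoin k s
  haveI : Algebra.EssFiniteType F K := Algebra.EssFiniteType.of_comp k F K
  haveI : Subsingleton (Ω[K⁄F]) := by
    refine subsingleton_of_forall_eq 0 fun z => ?_
    obtain ⟨y, rfl⟩ := KaehlerDifferential.map_surjective k F K z
    have hy : y ∈ Submodule.span K (b : Set (Ω[K⁄k])) := by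
      rw [hbspan, KaehlerDifferential.span_range_derivation]; trivial
    induction hy using Submodule.span_induction with
    | mem x hx =>
      have : x = KaehlerDifferential.D k K (g ⟨x, hx⟩) := (hg ⟨x, hx⟩).symm
      rw [this, KaehlerDifferential.map_D]
      exact (KaehlerDifferential.D F K).map_algebraMap
        (⟨g ⟨x, hx⟩, IntermediateField.subset_adjoin k s ⟨_, rfl⟩⟩ : F)
    | zero => simp
    | add x y _ _ hx hy => rw [map_add, hx, hy, add_zero]
    | smul a x _ hx => rw [map_smul, hx, smul_zero]
  haveI : Algebra.FormallyUnramified F K := ⟨inferInstance⟩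
  haveI : Algebra.IsSeparable F K := Algebra.FormallyUnramified.isSeparable F K
  haveI : Algebra.IsAlgebraic (Algebra.adjoin k s) K :=
    IntermediateField.isAlgebraic_adjoin_iff_top.mp (inferInstanceAs (Algebra.IsAlgebraic F K))
  refine (Algebra.IsAlgebraic.trdeg_le_cardinalMk k s).trans ?_
  refine Cardinal.mk_range_le.trans ?_
  rw [Cardinal.mk_fintype, ← Module.finrank_eq_card_basis
    (Module.Basis.mk hbli (by rw [Subtype.range_coe, hbspan, KaehlerDifferential.span_range_derivation]))]

/-- Fibre rank of a finite module is upper semicontinuous along specialisation. -/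
theorem finrank_residueField_tensor_le {A : Type u} [CommRing A] (M : Type u) [AddCommGroup M]
    [Module A M] [Module.Finite A M] {q P : Ideal A} [q.IsPrime] [P.IsPrime] (h : q ≤ P) :
    Module.finrank q.ResidueField (q.ResidueField ⊗[A] M) ≤
      Module.finrank P.ResidueField (P.ResidueField ⊗[A] M) := by
  classical
  let K := P.ResidueField
  let L := q.ResidueField
  obtain ⟨b, hbsub, hbspan, hbli⟩ :=
    exists_linearIndependent K (Set.range fun m : M => (1 : K) ⊗ₜ[A] m)
  have htop : Submodule.span K (Set.range fun m : M => (1 : K) ⊗ₜ[A] m) = ⊤ := by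
    rw [eq_top_iff]
    rintro z -
    induction z with
    | zero => exact Submodule.zero_mem _
    | tmul c m =>
      have : c ⊗ₜ[A] m = c • ((1 : K) ⊗ₜ[A] m) := by rw [smul_tmul', smul_eq_mul, mul_one]
      rw [this]
      exact Submodule.smul_mem _ _ (Submodule.subset_span ⟨m, rfl⟩)
    | add x y hx hy => exact Submodule.add_mem _ hx hy
  haveI : Fintype b := FiniteDimensional.fintypeBasisIndex
    (Module.Basis.mk hbli (by rw [Subtype.range_coe, hbspan, htop]))
  have hcard : Module.finrank K (K ⊗[A] M) = Fintype.card b := Module.finrank_eq_card_basis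
    (Module.Basis.mk hbli (by rw [Subtype.range_coe, hbspan, htop]))
  choose g hg using fun x : b => hbsub x.2
  let N := Submodule.span A (Set.range g)
  have hP : ⟨P, inferInstance⟩ ∉ Module.support A (M ⧸ N) := by
    rw [Module.mem_support_iff_nontrivial_residueField_tensorProduct, not_nontrivial_iff_subsingleton]
    refine subsingleton_of_forall_eq 0 fun z => ?_
    obtain ⟨y, rfl⟩ := LinearMap.lTensor_surjective K N.mkQ_surjective z
    have hy : y ∈ Submodule.span K (b : Set (K ⊗[A] M)) := by rw [hbspan, htop]; trivial
    change (N.mkQ.baseChange K) y = 0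
    induction hy using Submodule.span_induction with
    | mem x hx =>
      have : x = (1 : K) ⊗ₜ g ⟨x, hx⟩ := (hg ⟨x, hx⟩).symm
      rw [this, LinearMap.baseChange_tmul, Submodule.mkQ_apply,
        (Submodule.Quotient.mk_eq_zero N).mpr (Submodule.subset_span ⟨_, rfl⟩), tmul_zero]
    | zero => simp
    | add x y _ _ hx hy => rw [map_add, hx, hy, add_zero]
    | smul a x _ hx => rw [map_smul, hx, smul_zero]
  have hq : ⟨q, inferInstance⟩ ∉ Module.support A (M ⧸ N) :=
    fun hq => hP (Module.mem_support_mono (p := ⟨q, inferInstance⟩) (q := ⟨P, inferInstance⟩) h hq)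
  rw [Module.mem_support_iff_nontrivial_residueField_tensorProduct,
    not_nontrivial_iff_subsingleton] at hq
  have hex : Function.Exact (N.subtype.lTensor L) (N.mkQ.lTensor L) :=
    lTensor_exact L (LinearMap.exact_subtype_mkQ N) N.mkQ_surjective
  have hspan : Submodule.span L (Set.range fun x : b => (1 : L) ⊗ₜ[A] g x) = ⊤ := by
    rw [eq_top_iff]
    rintro z -
    obtain ⟨y, rfl⟩ := (hex z).mp (hq.elim _ _)
    induction y with
    | zero => simp
    | tmul c n =>
      rw [LinearMap.lTensor_tmul]
      obtain ⟨n, hn⟩ := n
      change c ⊗ₜ[A] n ∈ _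
      induction hn using Submodule.span_induction with
      | mem x hx =>
        obtain ⟨x, rfl⟩ := hx
        have : c ⊗ₜ[A] g x = c • ((1 : L) ⊗ₜ[A] g x) := by rw [smul_tmul', smul_eq_mul, mul_one]
        rw [this]
        exact Submodule.smul_mem _ _ (Submodule.subset_span ⟨x, rfl⟩)
      | zero => simp
      | add x y _ _ hx hy => rw [tmul_add]; exact Submodule.add_mem _ hx hy
      | smul a x _ hx =>
        rw [tmul_smul]
        exact Submodule.smul_of_tower_mem _ a hx
    | add x y hx hy => rw [map_add]; exact Submodule.add_mem _ hx hy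
  calc Module.finrank L (L ⊗[A] M) = (Set.range fun x : b => (1 : L) ⊗ₜ[A] g x).finrank L := by
        rw [Set.finrank, hspan, finrank_top]
    _ ≤ Fintype.card b := finrank_range_le_card _
    _ = _ := hcard.symm

end Groth.Agent.OmegaTrdeg
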